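import Groth.Agent.BddFibLib.Points
import Groth.Agent.InsepLength.Scheme
import Groth.Agent.ConstrFib.Immersion
import Groth.Agent.S1859

/-!
`∑ e(x) f(x) = d` in the fibres of a finite flat morphism of degree `d`.
-/

set_option autoImplicit false
set_option linter.style.haveILetI false
set_option backward.isDefEq.respectTransparency.types false

universe u

open AlgebraicGeometry CategoryTheory CategoryTheory.Limits IsLocalRing

noncomputable section

namespace Groth.Agent.FiniteFlatDegree

theorem finrank_local (k T : Type u) [Field k] [CommRing T] [IsLocalRing T] [Algebra k T] [Module.Finite k T] :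
    (Module.length T T).toNat * Module.finrank k (ResidueField T) = Module.finrank k T := by
  haveI : IsLocalHom (algebraMap k T) := ⟨fun a ha => by
    refine IsUnit.mk0 a fun h => ?_
    rw [h, map_zero] at ha
    exact not_isUnit_zero ha⟩
  have h := IsLocalRing.length_restrictScalars k T T
  rw [Module.length_eq_finrank] at h
  haveI : Module.Finite k (ResidueField T) := inferInstance
  haveI : Module.Finite (ResidueField k) (ResidueField T) := Module.Finite.of_restrictScalars_finite k _ _
  rw [Module.length_eq_finrank (ResidueField k) (ResidueField T)] at h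
  have e : Module.finrank k (ResidueField T) = Module.finrank (ResidueField k) (ResidueField T) := by
    refine Algebra.finrank_eq_of_equiv_equiv (RingEquiv.ofBijective (residue k)
      ⟨(residue k).injective, Ideal.Quotient.mk_surjective⟩) (RingEquiv.refl _) ?_
    ext a
    rfl
  have := congrArg ENat.toNat h
  rw [ENat.toNat_mul, ENat.toNat_coe, ENat.toNat_coe] at this
  rw [e, this]

theorem finsum_affine {k : Type u} [Field k] {T : Scheme.{u}} [IsAffine T]
    (p : T ⟶ Spec (CommRingCat.of k))
    (hfin : letI := BddFib.secAlgebra (.of k) p; Module.Finite k Γ(T, ⊤)) :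
    letI := BddFib.secAlgebra (.of k) p
    Finite T ∧ ∑ᶠ x, (Module.length (T.presheaf.stalk x) (T.presheaf.stalk x)).toNat * p.residueDegree x =
      Module.finrank k Γ(T, ⊤) := by
  letI := BddFib.secAlgebra (.of k) p
  have : Module.Finite k Γ(T, ⊤) := hfin
  have : IsArtinianRing Γ(T, ⊤) := IsArtinianRing.of_finite k _
  have hT : Finite T := have : Finite ↥(Spec Γ(T, ⊤)) := inferInstanceAs (Finite (PrimeSpectrum Γ(T, ⊤)))
    Finite.of_equiv _ T.isoSpec.hom.homeomorph.toEquiv.symm
  refine ⟨hT, ?_⟩
  have := Fintype.ofFinite T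
  let hU := isAffineOpen_top T
  let m : T → MaximalSpectrum Γ(T, ⊤) := fun x =>
    ⟨(hU.primeIdealOf ⟨x, trivial⟩).asIdeal, IsArtinianRing.isMaximal_of_isPrime _⟩
  have hm : Function.Bijective m := by
    refine ⟨fun x y h => ?_, fun P => ?_⟩
    · have h' : hU.primeIdealOf ⟨x, trivial⟩ = hU.primeIdealOf ⟨y, trivial⟩ :=
        PrimeSpectrum.ext (congrArg MaximalSpectrum.asIdeal h)
      have := congrArg hU.fromSpec h'
      rwa [hU.fromSpec_primeIdealOf, hU.fromSpec_primeIdealOf] at this
    · refine ⟨hU.fromSpec P.toPrimeSpectrum, MaximalSpectrum.ext ?_⟩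
      have : hU.primeIdealOf ⟨hU.fromSpec P.toPrimeSpectrum, trivial⟩ = P.toPrimeSpectrum :=
        hU.fromSpec.isOpenEmbedding.injective (hU.fromSpec_primeIdealOf ⟨_, trivial⟩)
      exact congrArg PrimeSpectrum.asIdeal this
  have : Fintype (MaximalSpectrum Γ(T, ⊤)) := Fintype.ofFinite _
  let e : Γ(T, ⊤) ≃ₐ[k] ((P : MaximalSpectrum Γ(T, ⊤)) → Localization.AtPrime P.asIdeal) :=
    (MaximalSpectrum.toPiLocalizationEquiv Γ(T, ⊤)).restrictScalars k
  have : ∀ P : MaximalSpectrum Γ(T, ⊤), Module.Finite k (Localization.AtPrime P.asIdeal) := fun P =>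
    Module.Finite.of_surjective ((LinearMap.proj (R := k) (φ := fun Q : MaximalSpectrum Γ(T, ⊤) => Localization.AtPrime Q.asIdeal) P).comp e.toLinearMap)
      ((Function.surjective_eval P).comp e.surjective)
  rw [e.toLinearEquiv.finrank_eq, Module.finrank_pi_fintype, finsum_eq_sum_of_fintype,
    ← (Equiv.ofBijective m hm).sum_comp]
  refine Finset.sum_congr rfl fun x _ => ?_
  letI := TopCat.Presheaf.algebra_section_stalk T.presheaf (U := ⊤) ⟨x, trivial⟩
  have := hU.isLocalization_stalk ⟨x, trivial⟩
  let ε := IsLocalization.algEquiv (hU.primeIdealOf ⟨x, trivial⟩).asIdeal.primeCompl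
    (Localization.AtPrime (hU.primeIdealOf ⟨x, trivial⟩).asIdeal) (T.presheaf.stalk x)
  letI : Algebra k (T.presheaf.stalk x) :=
    ((algebraMap Γ(T, ⊤) (T.presheaf.stalk x)).comp (algebraMap k Γ(T, ⊤))).toAlgebra
  haveI : IsScalarTower k Γ(T, ⊤) (T.presheaf.stalk x) := IsScalarTower.of_algebraMap_eq' rfl
  let ε' := (ε.restrictScalars k).toLinearEquiv
  haveI : Module.Finite k (T.presheaf.stalk x) :=
    haveI := ‹∀ P : MaximalSpectrum Γ(T, ⊤), Module.Finite k (Localization.AtPrime P.asIdeal)› (m x)
    Module.Finite.equiv ε'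
  show _ = Module.finrank k (Localization.AtPrime (hU.primeIdealOf ⟨x, trivial⟩).asIdeal)
  rw [ε'.finrank_eq, ← finrank_local k (T.presheaf.stalk x)]
  congr 1
  letI : Algebra k (T.residueField x) := inferInstanceAs (Algebra k (ResidueField (T.presheaf.stalk x)))
  letI : Algebra ((Spec (CommRingCat.of k)).residueField (p x)) (T.residueField x) :=
    (p.residueFieldMap x).hom.toAlgebra
  let e : k →+* (Spec (CommRingCat.of k)).residueField (p x) :=
    ((Scheme.ΓSpecIso (.of k)).inv ≫ (Spec (.of k)).Γevaluation (p x)).hom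
  have hprime : ∀ P : Ideal Γ(Spec (CommRingCat.of k), ⊤), P.IsPrime → P.IsMaximal := by
    intro P hP
    have : IsField Γ(Spec (CommRingCat.of k), ⊤) :=
      (Scheme.ΓSpecIso (CommRingCat.of k)).commRingCatIsoToRingEquiv.toMulEquiv.isField
        (Field.toIsField k)
    letI := this.toField
    rw [(Ideal.eq_bot_or_top P).resolve_right hP.ne_top]
    exact Ideal.bot_isMaximal
  have he : Function.Bijective e :=
    ⟨RingHom.injective e, (BddFibLib.Γevaluation_surjective _ (hprime _ inferInstance)).comp
      (ConcreteCategory.bijective_of_isIso (Scheme.ΓSpecIso (CommRingCat.of k)).inv).2⟩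
  refine (Algebra.finrank_eq_of_equiv_equiv (RingEquiv.ofBijective e he) (RingEquiv.refl _) ?_).symm
  ext a
  exact Scheme.Γevaluation_naturality_apply p x _

theorem residueDegree_eq_one_of_surjective {X Y : Scheme.{u}} (i : X ⟶ Y) (x : X)
    (hi : Function.Surjective (i.residueFieldMap x)) : i.residueDegree x = 1 := by
  letI : Algebra (Y.residueField (i x)) (X.residueField x) := (i.residueFieldMap x).hom.toAlgebra
  let e : Y.residueField (i x) ≃ₗ[Y.residueField (i x)] X.residueField x :=
    LinearEquiv.ofBijective (Algebra.linearMap _ _) ⟨RingHom.injective _, hi⟩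
  exact e.finrank_eq.symm.trans (Module.finrank_self _)

theorem finrank_spec_field (k A : Type u) [Field k] [CommRing A] [Algebra k A] [Module.Finite k A]
    (t : ↥(Spec (CommRingCat.of k))) :
    Module.finrank k A = (Spec.map (CommRingCat.ofHom (algebraMap k A))).finrank t := by
  rw [Scheme.Hom.finrank_SpecMap_algebraMap k A t, Module.rankAtStalk_eq_finrank_of_free]
  rfl

theorem finsum_fibre {X Y : Scheme.{u}} (f : X ⟶ Y) [IsFinite f] [Flat f] (y : Y) :
    Finite (f.fiber y) ∧
    ∑ᶠ z : f.fiber y, DimFunLift.pullLen f (f.fiberι y z) * f.residueDegree (f.fiberι y z) = f.finrank y := by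
  let q := f.fiberToSpecResidueField y
  haveI : IsFinite q := MorphismProperty.pullback_snd _ _ inferInstance
  haveI : Flat q := MorphismProperty.pullback_snd _ _ inferInstance
  haveI : IsAffine (f.fiber y) := isAffine_of_isAffineHom q
  letI := BddFib.secAlgebra (CommRingCat.of (Y.residueField y)) q
  have hfin : Module.Finite (Y.residueField y) Γ(f.fiber y, ⊤) :=
    RingHom.finite_algebraMap.1 (RingHom.Finite.comp q.finite_appTop
      (RingHom.Finite.of_surjective _ (ConcreteCategory.bijective_of_isIso
        (Scheme.ΓSpecIso (CommRingCat.of (Y.residueField y))).inv).2))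
  obtain ⟨hT, hsum⟩ := finsum_affine q hfin
  refine ⟨hT, ?_⟩
  have key : ∀ z : f.fiber y, DimFunLift.pullLen f (f.fiberι y z) * f.residueDegree (f.fiberι y z) =
      (Module.length ((f.fiber y).presheaf.stalk z) ((f.fiber y).presheaf.stalk z)).toNat * q.residueDegree z := by
    intro z
    obtain ⟨ρ⟩ := FlatLocalDepth.nonempty_fibre_stalk_equiv f y z (f.fiberι y z) rfl
    congr 1
    · unfold DimFunLift.pullLen
      rw [Module.length_eq_of_surjective (S := X.presheaf.stalk (f.fiberι y z))
        (R := X.presheaf.stalk (f.fiberι y z) ⧸ Ideal.map (f.stalkMap (f.fiberι y z)).hom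
          (maximalIdeal (Y.presheaf.stalk (f (f.fiberι y z))))) Ideal.Quotient.mk_surjective,
        InsepLength.length_ringEquiv ρ]
    · have w : f.fiberι y ≫ f = q ≫ Y.fromSpecResidueField y := pullback.condition
      have h1 := S1859.residueDegree_comp (f.fiberι y) f z
      rw [w, S1859.residueDegree_comp, residueDegree_eq_one_of_surjective (f.fiberι y) z (ConstrFib.residueFieldMap_surjective _ z),
        residueDegree_eq_one_of_surjective _ _ (ConstrFib.residueFieldMap_surjective (Y.fromSpecResidueField y) _),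
        one_mul, mul_one] at h1
      exact h1.symm
  refine (finsum_congr key).trans (hsum.trans ?_)
  let t : ↥(Spec (CommRingCat.of (Y.residueField y))) := IsLocalRing.closedPoint (Y.residueField y)
  have ht : Y.fromSpecResidueField y t = y := Y.fromSpecResidueField_apply y t
  have h3 : q.finrank t = f.finrank y :=
    (Scheme.Hom.finrank_pullback_snd f (Y.fromSpecResidueField y) t).trans (congrArg f.finrank ht)
  rw [← h3, ← Scheme.Hom.finrank_comp_left_of_isIso (f.fiber y).isoSpec.inv q]
  have hs : (f.fiber y).isoSpec.inv ≫ q =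
      Spec.map (CommRingCat.ofHom (algebraMap (Y.residueField y) Γ(f.fiber y, ⊤))) := by
    rw [Iso.inv_comp_eq]
    show q = (f.fiber y).toSpecΓ ≫
      Spec.map ((Scheme.ΓSpecIso (CommRingCat.of (Y.residueField y))).inv ≫ q.appTop)
    rw [Spec.map_comp, ← Category.assoc, ← Scheme.toSpecΓ_naturality, Category.assoc,
      ← SpecMap_ΓSpecIso_hom, ← Spec.map_comp]
    exact ((congrArg (q ≫ ·) ((congrArg Spec.map
      (Scheme.ΓSpecIso (Y.residueField y)).inv_hom_id).trans (Spec.map_id _))).trans (Category.comp_id q)).symm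
  rw [hs]
  exact @finrank_spec_field (Y.residueField y) Γ(f.fiber y, ⊤) _ _ _ hfin t

end Groth.Agent.FiniteFlatDegree
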